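import Cfsg.Agent.Lib.TC.Enc

namespace Cfsg.Agent.Lib.CosetCert.D.Ru.Lv3.CT

open Cfsg.Agent.Lib.TC.Enc

set_option maxRecDepth 100000

/-- The chunks of the certificate. -/
noncomputable def tree : Tr Nat :=
  (Tr.leaf (nat_lit 0xa41815d9135ae5cc8309994ee66da260605114342fd4ac0c259d3879fef14184f4f1f6bab6a0309454556476040601f50748e89860c271f8d8dcd14818491a2673d3210300d8031c722e106134bc09216d220c24470a5025280184b9f00284208030900c1cc062800600a4020ce00800c00c40208040))

end Cfsg.Agent.Lib.CosetCert.D.Ru.Lv3.CT
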